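import Groth.Agent.S14623
import Groth.Agent.Lib.Helper25.KFlatBC
import Groth.Agent.Lib.Helper25.KFlatQis
import Groth.Prelude.Def_DDual2
import Mathlib.Algebra.Homology.DerivedCategory.KInjective
import Mathlib.Algebra.Homology.DerivedCategory.ExactFunctor

/-!
# Coextension of scalars on complexes; the right adjoint of restriction on K-injectives

For a ring map `π : A → B` and a K-injective complex `J` of `A`-modules, `Hom_A(B, J)` is a
K-injective complex of `B`-modules, and it represents `M ↦ Hom_{D(A)}(M|_A, Q J)` on `D(B)`.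
Hence any right adjoint `R` of `restrictD π` satisfies `R (Q J) ≅ Q (Hom_A(B, J))`.
-/

set_option autoImplicit false
universe u

namespace Groth.Agent.Lib.Helper25.Coext

open CategoryTheory CategoryTheory.Limits DerivedCategory

attribute [local instance] HasDerivedCategory.standard

variable {A B : Type u} [CommRing A] [CommRing B] (π : A →+* B)

/-- complexes of modules -/
abbrev Cx (R : Type u) [CommRing R] := CochainComplex (ModuleCat.{u} R) ℤ

/-- the module-level adjunction -/
noncomputable abbrev adjM : ModuleCat.restrictScalars.{u} π ⊣ ModuleCat.coextendScalars.{u, u, u} π :=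
  ModuleCat.restrictCoextendScalarsAdj.{u, u, u} π

instance : (ModuleCat.coextendScalars.{u, u, u} π).Additive :=
  (adjM π).right_adjoint_additive

/-- termwise restriction -/
noncomputable abbrev resCx : Cx B ⥤ Cx A :=
  (ModuleCat.restrictScalars.{u} π).mapHomologicalComplex (ComplexShape.up ℤ)

/-- termwise coextension -/
noncomputable abbrev coextCx : Cx A ⥤ Cx B :=
  (ModuleCat.coextendScalars.{u, u, u} π).mapHomologicalComplex (ComplexShape.up ℤ)

/-- unit on complexes -/
noncomputable abbrev unitCx (M : Cx B) : M ⟶ (coextCx π).obj ((resCx π).obj M) :=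
  Groth.Agent.S14623.unitApp (adjM π) (ComplexShape.up ℤ) M

/-- counit on complexes -/
noncomputable abbrev counitCx (J : Cx A) : (resCx π).obj ((coextCx π).obj J) ⟶ J :=
  Groth.Agent.S14623.counitApp (adjM π) (ComplexShape.up ℤ) J

/-- the transpose of a map `M|_A ⟶ J` -/
noncomputable def sharp {M : Cx B} {J : Cx A} (h : (resCx π).obj M ⟶ J) : M ⟶ (coextCx π).obj J :=
  unitCx π M ≫ (coextCx π).map h

/-- the transpose of a map `M ⟶ Hom_A(B, J)` -/
noncomputable def flat {M : Cx B} {J : Cx A} (g : M ⟶ (coextCx π).obj J) : (resCx π).obj M ⟶ J :=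
  (resCx π).map g ≫ counitCx π J

theorem sharp_flat {M : Cx B} {J : Cx A} (g : M ⟶ (coextCx π).obj J) :
    sharp π (flat π g) = g := by
  unfold sharp flat
  rw [Functor.map_comp, ← Category.assoc,
    ← Groth.Agent.S14623.unitApp_naturality (adjM π) (ComplexShape.up ℤ) g, Category.assoc,
    Groth.Agent.S14623.right_triangle_app (adjM π) (ComplexShape.up ℤ) J, Category.comp_id]

theorem flat_sharp {M : Cx B} {J : Cx A} (h : (resCx π).obj M ⟶ J) :
    flat π (sharp π h) = h := by
  unfold sharp flat
  rw [Functor.map_comp, Category.assoc,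
    Groth.Agent.S14623.counitApp_naturality (adjM π) (ComplexShape.up ℤ) h, ← Category.assoc,
    Groth.Agent.S14623.left_triangle_app (adjM π) (ComplexShape.up ℤ) M, Category.id_comp]

theorem Qmap_coext_eq_zero {K J : Cx A} (h : K ⟶ J) (hh : Q.map h = 0) [J.IsKInjective] :
    Q.map ((coextCx π).map h) = 0 := by
  have h1 : (HomotopyCategory.quotient _ _).map h = 0 := by
    apply (CochainComplex.IsKInjective.Qh_map_bijective
      ((HomotopyCategory.quotient _ _).obj K) J).injective
    rw [Functor.map_zero]
    exact hh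
  rw [HomotopyCategory.quotient_map_eq_zero_iff] at h1
  obtain ⟨ht⟩ := h1
  have h2 : (HomotopyCategory.quotient _ _).map ((coextCx π).map h) = 0 := by
    rw [HomotopyCategory.quotient_map_eq_zero_iff]
    have := (ModuleCat.coextendScalars.{u, u, u} π).mapHomotopy ht
    rw [Functor.map_zero] at this
    exact ⟨this⟩
  change Qh.map ((HomotopyCategory.quotient _ _).map ((coextCx π).map h)) = 0
  rw [h2, Functor.map_zero]

theorem acyclic_resCx (M : Cx B) (hM : M.Acyclic) : ((resCx π).obj M).Acyclic := by
  rw [← Groth.Agent.Lib.Helper25.KFlat.acyclic_iff_hAcyclic] at hM ⊢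
  exact Groth.Agent.Lib.Helper25.KFlat.acyclic_resCx π M hM

instance isKInjective_coext (J : Cx A) [J.IsKInjective] : ((coextCx π).obj J).IsKInjective where
  nonempty_homotopy_zero {M} g hM := by
    have h1 : Nonempty (Homotopy (flat π g) 0) :=
      CochainComplex.IsKInjective.nonempty_homotopy_zero (flat π g) (acyclic_resCx π M hM)
    obtain ⟨ht⟩ := h1
    have h2 := (ModuleCat.coextendScalars.{u, u, u} π).mapHomotopy ht
    rw [Functor.map_zero] at h2
    have h3 : Homotopy (unitCx π M ≫ (coextCx π).map (flat π g)) (unitCx π M ≫ 0) :=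
      h2.compLeft (unitCx π M)
    rw [comp_zero] at h3
    have h4 : unitCx π M ≫ (coextCx π).map (flat π g) = g := sharp_flat π g
    rw [h4] at h3
    exact ⟨h3⟩

end Groth.Agent.Lib.Helper25.Coext
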