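import Groth.Agent.Lib.Helper25.Coext.Basic

/-!
# `R (Q J) ≅ Q (Hom_A(B, J))` for any right adjoint `R` of `restrictD π` and K-injective `J`
-/

set_option autoImplicit false
universe u

namespace Groth.Agent.Lib.Helper25.Coext

open CategoryTheory CategoryTheory.Limits DerivedCategory

attribute [local instance] HasDerivedCategory.standard

variable {A B : Type u} [CommRing A] [CommRing B] (π : A →+* B)

/-- restriction on derived categories is computed termwise -/
noncomputable abbrev resFac : Q ⋙ DRing.restrictD π ≅ resCx π ⋙ Q :=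
  (ModuleCat.restrictScalars.{u} π).mapDerivedCategoryFactors

variable (J : Cx A)

/-- the evaluation `Hom_A(B, J)|_A ⟶ J` in `D(A)` -/
noncomputable def eMap : (DRing.restrictD π).obj (Q.obj ((coextCx π).obj J)) ⟶ Q.obj J :=
  (resFac π).hom.app ((coextCx π).obj J) ≫ Q.map (counitCx π J)

theorem res_Qmap_comp_eMap {M₀ : Cx B} (g₀ : M₀ ⟶ (coextCx π).obj J) :
    (DRing.restrictD π).map (Q.map g₀) ≫ eMap π J =
      (resFac π).hom.app M₀ ≫ Q.map (flat π g₀) := by
  have h1 := (resFac π).hom.naturality g₀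
  dsimp only [Functor.comp_obj, Functor.comp_map] at h1
  unfold eMap flat
  rw [← Category.assoc, h1, Category.assoc, ← Functor.map_comp]

theorem flat_sub {M₀ : Cx B} (g g' : M₀ ⟶ (coextCx π).obj J) :
    flat π (g - g') = flat π g - flat π g' := by
  unfold flat
  rw [Functor.map_sub, Preadditive.sub_comp]

variable [J.IsKInjective]

theorem exists_Qmap_eq {K : Cx A} (ψ : Q.obj K ⟶ Q.obj J) : ∃ h : K ⟶ J, Q.map h = ψ := by
  obtain ⟨ψ', hψ'⟩ := (CochainComplex.IsKInjective.Qh_map_bijective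
    ((HomotopyCategory.quotient _ _).obj K) J).surjective ψ
  obtain ⟨h, rfl⟩ := (HomotopyCategory.quotient _ _).map_surjective ψ'
  exact ⟨h, hψ'⟩

theorem exists_Qmap_eq' {M₀ : Cx B} (ψ : Q.obj M₀ ⟶ Q.obj ((coextCx π).obj J)) :
    ∃ h : M₀ ⟶ (coextCx π).obj J, Q.map h = ψ := by
  obtain ⟨ψ', hψ'⟩ := (CochainComplex.IsKInjective.Qh_map_bijective
    ((HomotopyCategory.quotient _ _).obj M₀) ((coextCx π).obj J)).surjective ψ
  obtain ⟨h, rfl⟩ := (HomotopyCategory.quotient _ _).map_surjective ψ'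
  exact ⟨h, hψ'⟩

theorem bijective_res_comp_eMap (M₀ : Cx B) :
    Function.Bijective (fun g : Q.obj M₀ ⟶ Q.obj ((coextCx π).obj J) =>
      (DRing.restrictD π).map g ≫ eMap π J) := by
  constructor
  · intro g g' hgg'
    obtain ⟨g₀, rfl⟩ := exists_Qmap_eq' π J g
    obtain ⟨g₀', rfl⟩ := exists_Qmap_eq' π J g'
    dsimp only at hgg'
    rw [res_Qmap_comp_eMap, res_Qmap_comp_eMap, cancel_epi] at hgg'
    have h1 : Q.map (flat π (g₀ - g₀')) = 0 := by
      rw [flat_sub, Functor.map_sub, hgg', sub_self]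
    have h2 : Q.map (g₀ - g₀') = 0 := by
      rw [← sharp_flat π (g₀ - g₀')]
      unfold sharp
      rw [Functor.map_comp, Qmap_coext_eq_zero π _ h1, comp_zero]
    rw [Functor.map_sub, sub_eq_zero] at h2
    exact h2
  · intro ψ
    obtain ⟨h₀, hh₀⟩ := exists_Qmap_eq J ((resFac π).inv.app M₀ ≫ ψ)
    refine ⟨Q.map (sharp π h₀), ?_⟩
    dsimp only
    rw [res_Qmap_comp_eMap, flat_sharp, hh₀, Iso.hom_inv_id_app_assoc]

variable {R : Dual.D A ⥤ Dual.D B} (adj : DRing.restrictD π ⊣ R)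

/-- the comparison `Q (Hom_A(B, J)) ⟶ R (Q J)` -/
noncomputable def theta : Q.obj ((coextCx π).obj J) ⟶ R.obj (Q.obj J) :=
  adj.homEquiv _ _ (eMap π J)

theorem comp_theta {T : Dual.D B} (x : T ⟶ Q.obj ((coextCx π).obj J)) :
    x ≫ theta π J adj = adj.homEquiv _ _ ((DRing.restrictD π).map x ≫ eMap π J) := by
  unfold theta
  rw [Adjunction.homEquiv_naturality_left]

theorem bijective_comp_theta (T : Dual.D B) :
    Function.Bijective (fun x : T ⟶ Q.obj ((coextCx π).obj J) => x ≫ theta π J adj) := by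
  let M₀ := Q.objPreimage T
  let i : Q.obj M₀ ≅ T := Q.objObjPreimageIso T
  have h1 : Function.Bijective
      (fun x : Q.obj M₀ ⟶ Q.obj ((coextCx π).obj J) => x ≫ theta π J adj) := by
    have : (fun x : Q.obj M₀ ⟶ Q.obj ((coextCx π).obj J) => x ≫ theta π J adj) =
        (adj.homEquiv _ _) ∘ (fun g : Q.obj M₀ ⟶ Q.obj ((coextCx π).obj J) =>
          (DRing.restrictD π).map g ≫ eMap π J) := by
      funext x
      exact comp_theta π J adj x
    rw [this]
    exact (adj.homEquiv _ _).bijective.comp (bijective_res_comp_eMap π J M₀)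
  constructor
  · intro x y hxy
    dsimp only at hxy
    have := h1.1 (a₁ := i.hom ≫ x) (a₂ := i.hom ≫ y) (by
      dsimp only
      rw [Category.assoc, Category.assoc, hxy])
    exact (cancel_epi i.hom).1 this
  · intro y
    obtain ⟨x, hx⟩ := h1.2 (i.hom ≫ y)
    refine ⟨i.inv ≫ x, ?_⟩
    dsimp only at hx ⊢
    rw [Category.assoc, hx, Iso.inv_hom_id_assoc]

instance isIso_theta : IsIso (theta π J adj) :=
  isIso_of_yoneda_map_bijective _ (bijective_comp_theta π J adj)

/-- `R (Q J) ≅ Q (Hom_A(B, J))` -/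
noncomputable def thetaIso : Q.obj ((coextCx π).obj J) ≅ R.obj (Q.obj J) :=
  asIso (theta π J adj)

/-- `(R (Q J))|_A ≅ Q (Hom_A(B, J)|_A)` -/
noncomputable def resIso :
    (DRing.restrictD π).obj (R.obj (Q.obj J)) ≅ Q.obj ((resCx π).obj ((coextCx π).obj J)) :=
  (DRing.restrictD π).mapIso (thetaIso π J adj).symm ≪≫ (resFac π).app ((coextCx π).obj J)

end Groth.Agent.Lib.Helper25.Coext
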