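import Groth.Agent.Lib.Helper25.Coext.Repr
import Groth.Agent.Lib.Helper13.KInjMain
import Mathlib.Algebra.Homology.DerivedCategory.ShortExact
import Mathlib.Algebra.Homology.HomologicalComplexAbelian

/-!
# The triangle `Hom_A(A/f, J) → J → J` for a nonzerodivisor `f`
-/

set_option autoImplicit false
universe u

namespace Groth.Agent.Lib.Helper25.Coext

open CategoryTheory CategoryTheory.Limits DerivedCategory

attribute [local instance] HasDerivedCategory.standard

variable {A : Type u} [CommRing A] (f : A)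

/-- the quotient map `A → A/(f)` -/
abbrev qm : A →+* A ⧸ Ideal.span {f} := Ideal.Quotient.mk (Ideal.span {f})

section Module

variable (N : ModuleCat.{u} A)

/-- the carrier of `Hom_A(A/f, N)` -/
noncomputable abbrev HomB : ModuleCat.{u} A :=
  (ModuleCat.restrictScalars.{u} (qm f)).obj ((ModuleCat.coextendScalars.{u, u, u} (qm f)).obj N)

/-- evaluation at `1` -/
noncomputable abbrev ev1 : HomB f N ⟶ N := (adjM (qm f)).counit.app N

/-- the underlying linear map of an element of `Hom_A(A/f, N)` -/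
noncomputable def toLin (h : HomB f N) :
    ((ModuleCat.restrictScalars.{u} (qm f)).obj (ModuleCat.of _ (A ⧸ Ideal.span {f}))) →ₗ[A] N :=
  ModuleCat.CoextendScalars.equiv (qm f) N
    (show ((ModuleCat.coextendScalars.{u, u, u} (qm f)).obj N) from h)

theorem toLin_injective : Function.Injective (toLin f N) := fun h h' hh =>
  (ModuleCat.CoextendScalars.equiv (qm f) N).injective hh

theorem ev1_apply (h : HomB f N) :
    (ev1 f N).hom h = toLin f N h (1 : A ⧸ Ideal.span {f}) := rfl

theorem toLin_apply_mk (h : HomB f N) (a : A) :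
    toLin f N h (qm f a) = a • (ev1 f N).hom h := by
  rw [ev1_apply, ← map_smul]
  congr 1
  change qm f a = qm f a * 1
  rw [mul_one]

theorem ev1_injective : Function.Injective (ev1 f N).hom := by
  intro h h' hh
  apply toLin_injective
  apply LinearMap.ext
  intro b
  obtain ⟨a, rfl⟩ := Ideal.Quotient.mk_surjective b
  exact (toLin_apply_mk f N h a).trans ((congrArg (fun t => a • t) hh).trans
    (toLin_apply_mk f N h' a).symm)

theorem smul_ev1 (h : HomB f N) : f • (ev1 f N).hom h = 0 := by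
  rw [← toLin_apply_mk]
  have : qm f f = 0 := Ideal.Quotient.eq_zero_iff_mem.2 (Ideal.mem_span_singleton_self f)
  rw [this]
  exact (toLin f N h).map_zero

theorem exists_ev1_eq (x : N) (hx : f • x = 0) : ∃ h : HomB f N, (ev1 f N).hom h = x := by
  have hker : Ideal.span {f} ≤ LinearMap.ker (LinearMap.toSpanSingleton A N x) := by
    intro a ha
    obtain ⟨c, rfl⟩ := Ideal.mem_span_singleton'.1 ha
    rw [LinearMap.mem_ker, LinearMap.toSpanSingleton_apply, mul_smul, hx, smul_zero]
  let l₀ : (A ⧸ Ideal.span {f}) →ₗ[A] N :=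
    Submodule.liftQ (Ideal.span {f}) (LinearMap.toSpanSingleton A N x) hker
  let l : ((ModuleCat.restrictScalars.{u} (qm f)).obj (ModuleCat.of _ (A ⧸ Ideal.span {f}))) →ₗ[A] N :=
    { toFun := fun b => l₀ b
      map_add' := fun b b' => l₀.map_add b b'
      map_smul' := fun a b => by
        have : (a • b : (ModuleCat.restrictScalars.{u} (qm f)).obj
            (ModuleCat.of _ (A ⧸ Ideal.span {f}))) = (a • (show A ⧸ Ideal.span {f} from b)) := by
          obtain ⟨b', rfl⟩ := Ideal.Quotient.mk_surjective (show A ⧸ Ideal.span {f} from b)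
          rfl
        rw [this]
        exact l₀.map_smul a b }
  refine ⟨(ModuleCat.CoextendScalars.equiv (qm f) N).symm l, ?_⟩
  rw [ev1_apply]
  change l₀ (Submodule.Quotient.mk 1) = x
  rw [Submodule.liftQ_apply, LinearMap.toSpanSingleton_apply, one_smul]

variable {f} in
theorem smul_surjective_of_injective (hf : f ∈ nonZeroDivisors A) [Injective N] (x : N) :
    ∃ y : N, f • y = x := by
  let m : ModuleCat.of A A ⟶ ModuleCat.of A A := ModuleCat.ofHom (f • LinearMap.id)
  have : Mono m := by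
    rw [ModuleCat.mono_iff_injective]
    intro a b hab
    have h1 : f * a = f * b := hab
    exact (mul_cancel_left_mem_nonZeroDivisors hf).1 h1
  let g : ModuleCat.of A A ⟶ N := ModuleCat.ofHom (LinearMap.toSpanSingleton A N x)
  refine ⟨(Injective.factorThru g m).hom (1 : A), ?_⟩
  have h1 : m ≫ Injective.factorThru g m = g := Injective.comp_factorThru g m
  have h2 := congrArg (fun t => t.hom (1 : A)) h1
  have h3 : (m ≫ Injective.factorThru g m).hom (1 : A) =
      (Injective.factorThru g m).hom (f • (1 : A)) := by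
    change (Injective.factorThru g m).hom (f • (1 : A)) = _
    rfl
  have h4 : g.hom (1 : A) = x := by
    change (1 : A) • x = x
    rw [one_smul]
  rw [← h4, ← h2]
  dsimp only
  rw [h3, map_smul]

end Module

section Complex

variable (J : Cx A)

/-- the short complex `Hom_A(A/f, J)|_A ⟶ J ⟶ J` -/
noncomputable def sesf : ShortComplex (Cx A) :=
  ShortComplex.mk (counitCx (qm f) J) (f • 𝟙 J) (by
    ext n : 1
    apply ModuleCat.hom_ext
    apply LinearMap.ext
    intro h
    exact smul_ev1 f (J.X n) h)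

variable {f} in
theorem sesf_shortExact (hf : f ∈ nonZeroDivisors A) (hJ : ∀ n, Injective (J.X n)) :
    (sesf f J).ShortExact := by
  apply HomologicalComplex.shortExact_of_degreewise_shortExact
  intro n
  apply ModuleCat.shortComplex_shortExact
  · intro x
    constructor
    · intro hx
      exact exists_ev1_eq f (J.X n) x hx
    · rintro ⟨h, rfl⟩
      exact smul_ev1 f (J.X n) h
  · exact ev1_injective f (J.X n)
  · intro x
    haveI := hJ n
    exact smul_surjective_of_injective (J.X n) hf x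

end Complex

section Main

open Pretriangulated

theorem exists_triangle_of_iso {C : Type*} [Category C] [HasZeroObject C] [HasShift C ℤ]
    [Preadditive C] [∀ n : ℤ, (shiftFunctor C n).Additive] [Pretriangulated C]
    {X₁ X₂ X₃ : C} (m₁ : X₁ ⟶ X₂) (m₂ : X₂ ⟶ X₃) (m₃ : X₃ ⟶ X₁⟦(1 : ℤ)⟧)
    (hT : Triangle.mk m₁ m₂ m₃ ∈ distTriang C)
    {Y₁ Y₂ : C} (a : Y₁ ≅ X₁) (e : X₂ ≅ Y₂) (e' : X₃ ≅ Y₂) (g : Y₂ ⟶ Y₂)
    (hg : e.hom ≫ g = m₂ ≫ e'.hom) :
    ∃ (u : Y₁ ⟶ Y₂) (w : Y₂ ⟶ Y₁⟦(1 : ℤ)⟧), Triangle.mk u g w ∈ distTriang C := by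
  refine ⟨a.hom ≫ m₁ ≫ e.hom, e'.inv ≫ m₃ ≫ a.inv⟦(1 : ℤ)⟧', ?_⟩
  refine isomorphic_distinguished _ hT _ (Triangle.isoMk _ _ a e.symm e'.symm ?_ ?_ ?_)
  · change (a.hom ≫ m₁ ≫ e.hom) ≫ e.inv = a.hom ≫ m₁
    rw [Category.assoc, Category.assoc, Iso.hom_inv_id, Category.comp_id]
  · change g ≫ e'.inv = e.inv ≫ m₂
    rw [← cancel_epi e.hom, ← Category.assoc, hg, Category.assoc, Iso.hom_inv_id,
      Category.comp_id, Iso.hom_inv_id_assoc]
  · change (e'.inv ≫ m₃ ≫ (shiftFunctor C (1 : ℤ)).map a.inv) ≫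
      (shiftFunctor C (1 : ℤ)).map a.hom = e'.inv ≫ m₃
    rw [Category.assoc, Category.assoc, ← Functor.map_comp, Iso.inv_hom_id,
      CategoryTheory.Functor.map_id, Category.comp_id]

theorem main {f : A} (hf : f ∈ nonZeroDivisors A) (ω : Dual.D A)
    (R : Dual.D A ⥤ Dual.D (A ⧸ Ideal.span {f})) (adj : DRing.restrictD (qm f) ⊣ R) :
    ∃ (u : (DRing.restrictD (qm f)).obj (R.obj ω) ⟶ ω)
      (w : ω ⟶ ((DRing.restrictD (qm f)).obj (R.obj ω))⟦(1 : ℤ)⟧),
      Triangle.mk u (f • 𝟙 ω) w ∈ distTriang (Dual.D A) := by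
  obtain ⟨J, f₀, hJ, hqis, -, hext⟩ :=
    Groth.Agent.Lib.Helper13.KInjMain.exists_kInjective_resolution (Q.objPreimage ω)
  haveI := hJ
  haveI := hqis
  have hinj : ∀ n, Injective (J.X n) := fun n =>
    Groth.Agent.Lib.Helper13.KInjBasic.injective_of_extProp hext n
  let e : Q.obj J ≅ ω := (asIso (Q.map f₀)).symm ≪≫ Q.objObjPreimageIso ω
  have hS := sesf_shortExact J hf hinj
  let a : (DRing.restrictD (qm f)).obj (R.obj ω) ≅
      Q.obj ((resCx (qm f)).obj ((coextCx (qm f)).obj J)) :=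
    (DRing.restrictD (qm f)).mapIso (R.mapIso e.symm) ≪≫ resIso (qm f) J adj
  refine exists_triangle_of_iso (Q.map (sesf f J).f) (Q.map (sesf f J).g) (triangleOfSESδ hS)
    (triangleOfSES_distinguished hS) a e e (f • 𝟙 ω) ?_
  have h1 : Q.map (sesf f J).g = f • 𝟙 (Q.obj J) := by
    change Q.map (f • 𝟙 J) = _
    rw [Functor.map_smul, CategoryTheory.Functor.map_id]
  have h2 : ∀ {X Y : Dual.D A} (e : X ⟶ Y), e ≫ (f • 𝟙 Y) = (f • 𝟙 X) ≫ e := by
    intro X Y e
    rw [Linear.smul_comp, Linear.comp_smul, Category.id_comp, Category.comp_id]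
  rw [h1]
  exact h2 e.hom

end Main

end Groth.Agent.Lib.Helper25.Coext
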